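import Groth.Agent.HomLiftLib.MultType
import Groth.Agent.HomLiftLib.HopfStage
import Groth.Agent.HomLiftLib.Cancel
import Groth.Agent.FlatLib.StageFF
import Groth.Agent.FinMultLib.Normal
import Groth.Agent.FlatLiftLib.Main
import Groth.Agent.Pi1DescLib.UnivInj
import Groth.Agent.DiagHopfLib.Torsion

set_option autoImplicit false

/-!
Descent of quasi-isotrivial groups along directed unions of base rings.
-/

noncomputable section

universe u

open scoped TensorProduct
open Groth.Agent.TorusField Groth.Agent.DiagHopf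

namespace Groth.Agent.IsoDesc

theorem finitePresentation_monoidAlgebra (R : Type u) [CommRing R] (M : Type u) [CommGroup M] [Monoid.FG M] :
    Algebra.FinitePresentation R (MonoidAlgebra R M) := by
  haveI : Algebra.FinitePresentation ℤ (MonoidAlgebra ℤ M) :=
    Algebra.FinitePresentation.of_finiteType.1 inferInstance
  haveI : Algebra.FinitePresentation R (R ⊗[ℤ] MonoidAlgebra ℤ M) := inferInstance
  exact Algebra.FinitePresentation.equiv (MonoidAlgebra.scalarTensorEquiv ℤ R)

/-- A finitely generated type after an étale splitting over a basic open. -/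
theorem exists_split_fg {A C R' : Type u} [CommRing A] [CommRing C] [HopfAlgebra A C] [CommRing R'] [Algebra A R']
    [Algebra.FiniteType A C] {N : Type u} [AddCommGroup N] (E : Split A C N R') :
    ∃ (M : Type u) (_ : AddCommGroup M), AddGroup.FG M ∧ Nonempty (Split A C M R') := by
  rcases subsingleton_or_nontrivial R' with h | h
  · haveI : Subsingleton (R' ⊗[A] C) := Module.subsingleton R' _
    refine ⟨PUnit.{u + 1}, inferInstance, inferInstance,
      ⟨⟨Module.Basis.ofRepr ((0 : R' ⊗[A] C →ₗ[R'] (PUnit.{u+1} →₀ R')) |> fun f =>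
          LinearEquiv.ofLinear f 0 (LinearMap.ext fun _ => Subsingleton.elim _ _)
            (LinearMap.ext fun _ => Subsingleton.elim _ _)),
        Subsingleton.elim _ _, fun _ _ => Subsingleton.elim _ _, fun _ => ?_⟩⟩⟩
    haveI : Subsingleton (R' ⊗[A] (C ⊗[A] C)) := Module.subsingleton R' _
    exact ⟨Subsingleton.elim _ _, Subsingleton.elim _ _⟩
  · exact ⟨N, inferInstance, AddGroup.fg_iff_addMonoid_fg.2 (fg_of_split' E), ⟨E⟩⟩

section Descend

variable {R₂ A : Type u} [CommRing R₂] [IsNoetherianRing R₂] [CommRing A] [Algebra R₂ A]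
  {B : Type u} [CommRing B] [HopfAlgebra R₂ B] [Module.Flat R₂ B] [Algebra.FiniteType R₂ B]

/-- A splitting over a base change of an algebra at a finitely generated subalgebra descends. -/
theorem exists_stage {T : Type u} [CommRing T] [Algebra R₂ T] [Algebra A T] [IsScalarTower R₂ A T]
    {A₀ : Type u} [CommRing A₀] [Algebra R₂ A₀] [Algebra A₀ A] [IsScalarTower R₂ A₀ A] [Algebra A₀ T]
    [IsScalarTower A₀ A T] [IsScalarTower R₂ A₀ T] {B₀ : Type u} [CommRing B₀] [Algebra A₀ B₀]
    [Algebra.Etale A₀ B₀]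
    (e₀ : A ⊗[A₀] B₀ ≃ₐ[A] T) {M : Type u} [AddCommGroup M] [AddGroup.FG M] (E : Split R₂ B M T) :
    ∃ S : Subalgebra A₀ A, S.FG ∧ Nonempty (Split R₂ B M (S ⊗[A₀] B₀)) := by
  classical
  obtain ⟨gens, hgens⟩ := (AddGroup.fg_iff_addMonoid_fg.1 (inferInstance : AddGroup.FG M)).1
  obtain ⟨G, hG⟩ := (Algebra.FiniteType.out : (⊤ : Subalgebra R₂ B).FG)
  have hel : ∀ z : T ⊗[R₂] B, ∃ S₀ : Subalgebra A₀ A, S₀.FG ∧ ∀ S, S₀ ≤ S →
      z ∈ (push (A := B) ((HomLift.modelMap (HomLift.stageEquiv e₀ S)).restrictScalars R₂)).range := by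
    intro z
    induction z using TensorProduct.induction_on with
    | zero => exact ⟨⊥, Subalgebra.fg_bot, fun S _ => zero_mem _⟩
    | add a b ha hb =>
      obtain ⟨Sa, h1, h2⟩ := ha
      obtain ⟨Sb, h3, h4⟩ := hb
      exact ⟨Sa ⊔ Sb, h1.sup h3, fun S hS => add_mem (h2 S (le_sup_left.trans hS)) (h4 S (le_sup_right.trans hS))⟩
    | tmul t b =>
      obtain ⟨S₀, h1, h2⟩ := HomLift.exists_stage_mem e₀ t
      refine ⟨S₀, h1, fun S hS => ?_⟩
      obtain ⟨w, hw⟩ := h2 S hS
      refine ⟨w ⊗ₜ b, ?_⟩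
      show push _ (w ⊗ₜ b) = _
      rw [push, Algebra.TensorProduct.map_tmul]
      exact congrArg (fun a => a ⊗ₜ[R₂] b) hw
  choose SM hSM1 hSM2 using fun m => hel (E.e m)
  choose SC hSC1 hSC2 using fun t => HomLift.exists_stage_mem e₀ t
  let coef : B → Finset T := fun b =>
    (E.e.repr ((1 : T) ⊗ₜ[R₂] b)).support.image fun m => E.e.repr ((1 : T) ⊗ₜ[R₂] b) m
  let S : Subalgebra A₀ A := gens.sup SM ⊔ (G.biUnion coef).sup SC
  have hS : S.FG := (Finset.sup_induction Subalgebra.fg_bot (fun _ h _ h' => h.sup h') fun m _ => hSM1 m).sup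
    (Finset.sup_induction Subalgebra.fg_bot (fun _ h _ h' => h.sup h') fun t _ => hSC1 t)
  let ι : (S ⊗[A₀] B₀) →ₐ[R₂] T := (HomLift.modelMap (HomLift.stageEquiv e₀ S)).restrictScalars R₂
  have hι : Function.Injective ι := HomLift.modelMap_injective Subtype.val_injective (HomLift.stageEquiv e₀ S)
  exact ⟨S, hS, HomLift.exists_split_descend ι hι E (by
      intro m
      have hm : m ∈ AddSubmonoid.closure (gens : Set M) := hgens ▸ AddSubmonoid.mem_top m
      induction hm using AddSubmonoid.closure_induction with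
      | mem x hx => exact hSM2 x S (le_trans (Finset.le_sup (f := SM) hx) le_sup_left)
      | zero => rw [E.e_zero]; exact one_mem _
      | add a b _ _ ha hb => rw [E.e_add]; exact mul_mem ha hb) (G : Set B) hG (by
      intro b hb m
      by_cases hm : E.e.repr ((1 : T) ⊗ₜ[R₂] b) m = 0
      · rw [hm]; exact zero_mem _
      · exact hSC2 _ S (le_trans (Finset.le_sup (f := SC) (Finset.mem_biUnion.2
          ⟨b, hb, Finset.mem_image.2 ⟨m, Finsupp.mem_support_iff.2 hm, rfl⟩⟩)) le_sup_right))⟩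

/-- A finite condition on the intermediate rings. -/
theorem exists_finset_of_fg {A₀ : Subalgebra R₂ A} (hA₀ : A₀.FG) (S : Subalgebra A₀ A) (hS : S.FG) :
    ∃ F : Finset A, (S.restrictScalars R₂) ≤ Algebra.adjoin R₂ (F : Set A) := by
  haveI : Algebra.FiniteType R₂ A₀ := A₀.fg_iff_finiteType.mp hA₀
  haveI : Algebra.FiniteType A₀ S := S.fg_iff_finiteType.mp hS
  haveI : Algebra.FiniteType R₂ S := Algebra.FiniteType.trans (S := A₀) ‹Algebra.FiniteType R₂ A₀› ‹Algebra.FiniteType A₀ S›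
  haveI : Algebra.FiniteType R₂ (S.restrictScalars R₂) := inferInstanceAs (Algebra.FiniteType R₂ S)
  obtain ⟨F, hF⟩ := (S.restrictScalars R₂).fg_iff_finiteType.mpr inferInstance
  exact ⟨F, le_of_eq hF.symm⟩

omit [IsNoetherianRing R₂] in
/-- A lift of a finitely generated stage into an intermediate ring. -/
theorem exists_lift_stage {Q : Type u} [CommRing Q] [Algebra R₂ Q] (i : Q →ₐ[R₂] A) (hi : Function.Injective i)
    (S : Subalgebra R₂ A) (h : S ≤ i.range) : ∃ φ : S →ₐ[R₂] Q, ∀ x, i (φ x) = x := by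
  refine ⟨(AlgEquiv.ofInjective i hi).symm.toAlgHom.comp (Subalgebra.inclusion h), fun x => ?_⟩
  exact congrArg Subtype.val ((AlgEquiv.ofInjective i hi).apply_symm_apply (Subalgebra.inclusion h x))

/-- Integrality of generators holds at a finitely generated stage. -/
theorem exists_finset_integral {A₀ : Type u} [CommRing A₀] [Algebra A₀ A] {B₀ : Type u} [CommRing B₀] [Algebra A₀ B₀]
    [Algebra.FiniteType A₀ B₀] [Module.Finite A (A ⊗[A₀] B₀)] :
    ∃ F : Finset A, ∀ (Q : Type u) [CommRing Q] [Algebra A₀ Q] (i : Q →ₐ[A₀] A),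
      Function.Injective i → (F : Set A) ⊆ i.range → Module.Finite Q (Q ⊗[A₀] B₀) := by
  classical
  obtain ⟨G, hG⟩ := (Algebra.FiniteType.out : (⊤ : Subalgebra A₀ B₀).FG)
  have key : ∀ x : B₀, ∃ F : Finset A, ∀ (Q : Type u) [CommRing Q] [Algebra A₀ Q] (i : Q →ₐ[A₀] A),
      Function.Injective i → (F : Set A) ⊆ i.range → IsIntegral Q ((1 : Q) ⊗ₜ[A₀] x) := by
    intro x
    rcases subsingleton_or_nontrivial A with hA | hA
    · refine ⟨∅, fun Q _ _ i hi _ => ?_⟩
      haveI : Subsingleton Q := hi.subsingleton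
      haveI : Subsingleton (Q ⊗[A₀] B₀) := Module.subsingleton Q _
      rw [Subsingleton.elim ((1 : Q) ⊗ₜ[A₀] x) 0]; exact isIntegral_zero
    obtain ⟨p, hp, hp0⟩ := Algebra.IsIntegral.isIntegral (R := A) ((1 : A) ⊗ₜ[A₀] x)
    let S := Algebra.adjoin A₀ ((p.support.image p.coeff : Finset A) : Set A)
    have hSfg : S.FG := ⟨_, rfl⟩
    have hlift : p ∈ Polynomial.lifts S.val.toRingHom := by
      rw [Polynomial.lifts_iff_coeff_lifts]
      intro n
      by_cases hn : n ∈ p.support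
      · exact ⟨⟨p.coeff n, Algebra.subset_adjoin (Finset.mem_coe.2 (Finset.mem_image_of_mem _ hn))⟩, rfl⟩
      · exact ⟨0, by rw [map_zero, Polynomial.notMem_support_iff.1 hn]⟩
    obtain ⟨p₁, hp₁, -, hmon⟩ := Polynomial.lifts_and_degree_eq_and_monic hlift hp
    let z : S ⊗[A₀] B₀ := p₁.eval₂ (algebraMap S _) ((1 : S) ⊗ₜ x)
    have hz : HomLift.HopfStage.toLim B₀ S z = 0 := by
      show (HomLift.HopfStage.toLim B₀ S).toRingHom z = 0
      rw [Polynomial.hom_eval₂, show (HomLift.HopfStage.toLim B₀ S).toRingHom.comp (algebraMap S _) =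
        (algebraMap A (A ⊗[A₀] B₀)).comp S.val.toRingHom from RingHom.ext fun s => rfl,
        ← Polynomial.eval₂_map, hp₁]
      exact hp0
    obtain ⟨T', hST, hT', hk⟩ := HomLift.HopfStage.exists_kill_one (X := B₀) hSfg z hz
    obtain ⟨F, hF⟩ := hT'
    refine ⟨F, fun Q _ _ i hi hFQ => ?_⟩
    obtain ⟨φ, hφ⟩ := exists_lift_stage i hi T' (by rw [← hF]; exact Algebra.adjoin_le hFQ)
    refine ⟨p₁.map ((φ.comp (Subalgebra.inclusion hST)).toRingHom), hmon.map _, ?_⟩
    have h := congrArg (Algebra.TensorProduct.map φ (AlgHom.id A₀ B₀)).toRingHom hk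
    rw [map_zero] at h
    change ((Algebra.TensorProduct.map φ (AlgHom.id A₀ B₀)).toRingHom.comp
      (HomLift.HopfStage.toStage B₀ hST).toRingHom) z = 0 at h
    rw [Polynomial.hom_eval₂] at h
    rw [Polynomial.eval₂_map]
    refine Eq.trans ?_ h
    congr 1
    simp [HomLift.HopfStage.toStage]
  choose F hF using key
  refine ⟨G.biUnion F, fun Q _ _ i hi hFQ => ?_⟩
  haveI : Algebra.IsIntegral Q (Q ⊗[A₀] B₀) := ⟨fun w => by
    induction w using TensorProduct.induction_on with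
    | zero => exact isIntegral_zero
    | add a b ha hb => exact ha.add hb
    | tmul q b =>
      rw [show q ⊗ₜ[A₀] b = algebraMap Q (Q ⊗[A₀] B₀) q * ((1 : Q) ⊗ₜ[A₀] b) by simp]
      refine isIntegral_algebraMap.mul ?_
      have hb : b ∈ Algebra.adjoin A₀ (G : Set B₀) := hG ▸ Algebra.mem_top
      exact (show Algebra.adjoin A₀ (G : Set B₀) ≤ ((integralClosure Q (Q ⊗[A₀] B₀)).restrictScalars A₀).comap
          (Algebra.TensorProduct.includeRight : B₀ →ₐ[A₀] Q ⊗[A₀] B₀) from Algebra.adjoin_le fun g hg =>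
            hF g Q i hi fun y hy => hFQ (Finset.mem_coe.2 (Finset.mem_biUnion.2 ⟨g, hg, hy⟩))) hb⟩
  exact Algebra.IsIntegral.finite

/-- An étale splitting over a basic open spreads to all large enough intermediate rings. -/
theorem exists_finset_cover (f : A) {T : Type u} [CommRing T] [Algebra R₂ T] [Algebra A T]
    [IsScalarTower R₂ A T] [Algebra.Etale A T]
    (hT : ∀ p : PrimeSpectrum A, f ∉ p.asIdeal → p ∈ Set.range (PrimeSpectrum.comap (algebraMap A T)))
    {M : Type u} [AddCommGroup M] [AddGroup.FG M] (E : Split R₂ B M T) :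
    ∃ F : Finset A, ∀ (Q : Type u) [CommRing Q] [Algebra R₂ Q] (i : Q →ₐ[R₂] A) (f' : Q),
      Function.Injective i → (F : Set A) ⊆ i.range → i f' = f →
        ∃ (W : Type u) (_ : CommRing W) (_ : Algebra R₂ W) (_ : Algebra Q W) (_ : IsScalarTower R₂ Q W),
          Algebra.Etale Q W ∧ (Module.Finite A T → Module.Finite Q W) ∧
          (∀ x : PrimeSpectrum Q, f' ∉ x.asIdeal → x ∈ Set.range (PrimeSpectrum.comap (algebraMap Q W))) ∧
          Nonempty (Split R₂ B M W) := by
  classical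
  obtain ⟨A₀, B₀, _, _, hA₀, hB₀, ⟨e₀⟩⟩ := Algebra.Etale.exists_subalgebra_fg (R := R₂) (A := A) (B := T)
  haveI := hB₀
  haveI : IsScalarTower A₀ A T := inferInstance
  haveI : IsScalarTower R₂ A₀ T := IsScalarTower.of_algebraMap_eq fun x => IsScalarTower.algebraMap_apply R₂ A T x
  obtain ⟨S, hS, ⟨ES⟩⟩ := exists_stage e₀.symm E
  obtain ⟨F₁, hF₁⟩ := exists_finset_of_fg hA₀ S hS
  haveI : Algebra.FiniteType R₂ A₀ := A₀.fg_iff_finiteType.mp hA₀
  haveI : IsNoetherianRing A₀ := Algebra.FiniteType.isNoetherianRing R₂ A₀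
  have hopen : IsOpen (Set.range (PrimeSpectrum.comap (algebraMap A₀ B₀))) :=
    (PrimeSpectrum.isOpenMap_comap_of_hasGoingDown_of_finitePresentation (R := A₀) (S := B₀)).isOpen_range
  obtain ⟨J, hJ⟩ := (PrimeSpectrum.isClosed_iff_zeroLocus_ideal _).1 hopen.isClosed_compl
  have hfJ : f ∈ (J.map (algebraMap A₀ A)).radical := by
    rw [Ideal.radical_eq_sInf, Submodule.mem_sInf]
    rintro P ⟨hle, hP⟩
    by_contra hf
    haveI := hP
    obtain ⟨t, ht⟩ := hT ⟨P, hP⟩ hf
    let σ : B₀ →+* T := e₀.symm.toAlgHom.toRingHom.comp Algebra.TensorProduct.includeRight.toRingHom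
    have hσ : σ.comp (algebraMap A₀ B₀) = (algebraMap A T).comp (algebraMap A₀ A) := RingHom.ext fun x => by
      show e₀.symm ((1 : A) ⊗ₜ[A₀] algebraMap A₀ B₀ x) = _
      rw [← Algebra.TensorProduct.tmul_one_eq_one_tmul]
      exact e₀.symm.commutes (algebraMap A₀ A x)
    have hmem : (PrimeSpectrum.comap (algebraMap A₀ A) ⟨P, hP⟩) ∈ Set.range (PrimeSpectrum.comap (algebraMap A₀ B₀)) :=
      ⟨PrimeSpectrum.comap σ t, by
        rw [← PrimeSpectrum.comap_comp_apply, hσ, PrimeSpectrum.comap_comp_apply, ht]⟩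
    have hz : (PrimeSpectrum.comap (algebraMap A₀ A) ⟨P, hP⟩) ∈ PrimeSpectrum.zeroLocus (J : Set A₀) := by
      rw [PrimeSpectrum.mem_zeroLocus]
      exact fun x hx => hle (Ideal.mem_map_of_mem _ hx)
    rw [← hJ] at hz
    exact hz hmem
  obtain ⟨n, hn⟩ := hfJ
  obtain ⟨k, hk⟩ := IsNoetherian.noetherian J
  have hn' : f ^ n ∈ Submodule.span A (((algebraMap A₀ A) '' (k : Set A₀))) := by
    have : J.map (algebraMap A₀ A) = Ideal.span ((algebraMap A₀ A) '' (k : Set A₀)) := by
      rw [← Ideal.map_span]; exact congrArg _ hk.symm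
    rw [this] at hn
    exact hn
  rw [← Finset.coe_image, Submodule.mem_span_finset] at hn'
  obtain ⟨c, -, hc⟩ := hn'
  obtain ⟨F₂, hF₂⟩ : ∃ F₂ : Finset A, Module.Finite A T → ∀ (Q : Type u) [CommRing Q] [Algebra A₀ Q]
      (i : Q →ₐ[A₀] A), Function.Injective i → (F₂ : Set A) ⊆ i.range → Module.Finite Q (Q ⊗[A₀] B₀) := by
    by_cases hfin : Module.Finite A T
    swap
    · exact ⟨∅, fun h => absurd h hfin⟩
    haveI := hfin
    haveI : Module.Finite A (A ⊗[A₀] B₀) := Module.Finite.equiv e₀.toLinearEquiv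
    obtain ⟨F₂, hF₂⟩ := exists_finset_integral (A₀ := A₀) (A := A) (B₀ := B₀)
    exact ⟨F₂, fun _ => hF₂⟩
  refine ⟨F₁ ∪ (k.image (algebraMap A₀ A)).image c ∪ F₂, fun Q _ _ i f' hi hF' hf => ?_⟩
  have hF : ((F₁ ∪ (k.image (algebraMap A₀ A)).image c : Finset A) : Set A) ⊆ i.range := fun x hx =>
    hF' (Finset.mem_coe.2 (Finset.mem_union_left _ hx))
  have hS' : S.restrictScalars R₂ ≤ i.range := hF₁.trans (Algebra.adjoin_le fun x hx =>
    hF (Finset.mem_coe.2 (Finset.mem_union_left _ hx)))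
  have hA₀' : A₀ ≤ i.range := fun x hx => hS' (show x ∈ S from S.algebraMap_mem ⟨x, hx⟩)
  obtain ⟨φ₀, hφ₀⟩ := exists_lift_stage i hi A₀ hA₀'
  obtain ⟨φ, hφ⟩ := exists_lift_stage i hi (S.restrictScalars R₂) hS'
  letI : Algebra A₀ Q := φ₀.toRingHom.toAlgebra
  haveI : IsScalarTower R₂ A₀ Q := IsScalarTower.of_algebraMap_eq fun x => (φ₀.commutes x).symm
  let ψ : S →ₐ[A₀] Q :=
    { toFun := φ
      map_one' := map_one φ
      map_mul' := map_mul φ
      map_zero' := map_zero φ
      map_add' := map_add φ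
      commutes' := fun a => hi ((hφ _).trans (hφ₀ a).symm) }
  let W := Q ⊗[A₀] B₀
  obtain ⟨EW, -⟩ := exists_split_push ES
    ((Algebra.TensorProduct.map ψ (AlgHom.id A₀ B₀)).restrictScalars R₂)
  haveI : Algebra.Etale Q W := inferInstance
  have hcov : ∀ x : PrimeSpectrum Q, f' ∉ x.asIdeal → x ∈ Set.range (PrimeSpectrum.comap (algebraMap Q W)) := by
    intro x hx
    refine FlatLib.mem_range_comap_baseChange (R₂ := Q) x ?_
    by_contra hnot
    have hz : PrimeSpectrum.comap (algebraMap A₀ Q) x ∈ PrimeSpectrum.zeroLocus (J : Set A₀) := hJ ▸ hnot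
    refine hx (x.2.mem_of_pow_mem n ?_)
    have hmem : ∀ y ∈ k.image (algebraMap A₀ A), ∃ q, i q = c y ∧ ∃ j ∈ J, algebraMap A₀ A j = y := fun y hy => by
      obtain ⟨q, hq⟩ := hF (Finset.mem_coe.2 (Finset.mem_union_right _ (Finset.mem_image_of_mem c hy)))
      obtain ⟨j, hj, rfl⟩ := Finset.mem_image.1 hy
      exact ⟨q, hq, j, hk ▸ Submodule.subset_span hj, rfl⟩
    choose q hq j hjJ hj using hmem
    have : f' ^ n = ∑ y ∈ (k.image (algebraMap A₀ A)).attach, q y.1 y.2 * φ₀ (j y.1 y.2) := hi (by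
      rw [map_pow, hf, map_sum, ← hc, ← Finset.sum_attach (k.image (algebraMap A₀ A))]
      refine Finset.sum_congr rfl fun y _ => ?_
      rw [map_mul, hq, hφ₀, smul_eq_mul]
      exact congrArg _ (hj y.1 y.2).symm)
    rw [this]
    exact Ideal.sum_mem _ fun y _ => Ideal.mul_mem_left _ _ (PrimeSpectrum.mem_zeroLocus _ _ |>.1 hz (hjJ y.1 y.2))
  refine ⟨W, inferInstance, inferInstance, inferInstance, inferInstance, inferInstance, fun hfin => ?_, hcov, ⟨EW⟩⟩
  exact hF₂ hfin Q { i with commutes' := fun a => hφ₀ a } hi fun x hx =>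
    hF' (Finset.mem_coe.2 (Finset.mem_union_right _ hx))

/-- An étale splitting over a basic open spreads to all large enough intermediate rings. -/
theorem isQuasiIsotrivialConst_of_cover {Q : Type u} [CommRing Q] [Algebra R₂ Q] (f' : Q)
    {W : Type u} [CommRing W] [Algebra R₂ W] [Algebra Q W] [IsScalarTower R₂ Q W] [Algebra.Etale Q W]
    (hcov : ∀ x : PrimeSpectrum Q, f' ∉ x.asIdeal → x ∈ Set.range (PrimeSpectrum.comap (algebraMap Q W)))
    {M : Type u} [AddCommGroup M] (EW : Split R₂ B M W) :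
    SGA3b.IsQuasiIsotrivialConst (Localization.Away f') (Localization.Away f' ⊗[Q] (Q ⊗[R₂] B)) := by
  let Qf := Localization.Away f'
  let V := Qf ⊗[Q] W
  letI : CommRing V := inferInstanceAs (CommRing (Qf ⊗[Q] W))
  haveI : Algebra.Etale Qf V := inferInstance
  have hff : Module.FaithfullyFlat Qf V := Module.FaithfullyFlat.of_comap_surjective fun y =>
    FlatLib.mem_range_comap_baseChange (R₂ := Qf) y (hcov _ (fun h => y.2.ne_top
      (Ideal.eq_top_of_isUnit_mem _ h (IsLocalization.Away.algebraMap_isUnit f'))))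
  obtain ⟨EV, -⟩ := exists_split_push EW
    ((Algebra.TensorProduct.includeRight : W →ₐ[Q] V).restrictScalars R₂)
  obtain ⟨E₁⟩ := exists_split_transfer' (R' := Q) EV
  obtain ⟨E₂⟩ := exists_split_transfer' (R' := Qf) E₁
  exact ⟨V, inferInstance, inferInstance, inferInstance, hff, Multiplicative M, inferInstance,
    exists_bialgEquiv (N := Multiplicative M) E₂⟩

theorem isIsotrivial_of_cover {Q : Type u} [CommRing Q] [Algebra R₂ Q]
    {W : Type u} [CommRing W] [Algebra R₂ W] [Algebra Q W] [IsScalarTower R₂ Q W] [Algebra.Etale Q W]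
    [Module.Finite Q W] (hcov : Function.Surjective (PrimeSpectrum.comap (algebraMap Q W)))
    {M : Type u} [AddCommGroup M] (EW : Split R₂ B M W) : SGA3b.IsIsotrivial Q (Q ⊗[R₂] B) := by
  obtain ⟨E₁⟩ := exists_split_transfer' (R' := Q) EW
  exact ⟨W, inferInstance, inferInstance, inferInstance, inferInstance,
    Module.FaithfullyFlat.of_comap_surjective hcov, Multiplicative M, inferInstance,
    exists_bialgEquiv (N := Multiplicative M) E₁⟩

end Descend

end Groth.Agent.IsoDesc
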