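import Groth.Agent.IsoDescLib.Basic

set_option autoImplicit false

/-!
Quasi-isotrivial and isotrivial groups over directed unions.
-/

noncomputable section

universe u

open scoped TensorProduct
open Groth.Agent.TorusField Groth.Agent.DiagHopf

namespace Groth.Agent.IsoDesc

variable {A : Type u} [CommRing A] {C : Type u} [CommRing C] [HopfAlgebra A C]

theorem isQuasiIsotrivial_of_isIsotrivial (h : SGA3b.IsIsotrivial A C) :
    ∃ (T : Type u) (_ : CommRing T) (_ : Algebra A T), Algebra.Etale A T ∧ Module.Finite A T ∧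
      Module.FaithfullyFlat A T ∧ ∃ (M : Type u) (_ : AddCommGroup M), Nonempty (Split A C M T) := by
  obtain ⟨T, i1, i2, het, hfin, hff, N, _, ⟨e⟩⟩ := h
  exact ⟨T, i1, i2, het, hfin, hff, Additive N, inferInstance, exists_split_of_bialgEquiv e⟩

theorem finitePresentation_of_split [Algebra.FiniteType A C] {T : Type u} [CommRing T] [Algebra A T]
    [Module.FaithfullyFlat A T] {M : Type u} [AddCommGroup M] (E : Split A C M T) :
    Algebra.FinitePresentation A C := by
  obtain ⟨N, _, hN, ⟨E'⟩⟩ := exists_split_fg E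
  haveI := hN
  haveI : Monoid.FG (Multiplicative N) := Monoid.fg_iff_add_fg.mpr (by
    exact (AddGroup.fg_iff_addMonoid_fg.1 hN))
  haveI := finitePresentation_monoidAlgebra T (Multiplicative N)
  obtain ⟨e⟩ := exists_bialgEquiv (N := Multiplicative N) E'
  haveI : Algebra.FinitePresentation T (T ⊗[A] C) := Algebra.FinitePresentation.equiv e.toAlgEquiv.symm
  refine Pi1DescLib.algFinitePresentation_descends (S := T) (fun P _ _ => ?_) C
  intro x y hxy
  apply (TensorProduct.rid A P).injective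
  apply Module.FaithfullyFlat.tensorProduct_mk_injective (A := A) (B := T) P
  have key : ∀ z : P ⊗[A] A, (TensorProduct.mk A T P 1) (TensorProduct.rid A P z) =
      TensorProduct.comm A P T (LinearMap.lTensor P (Algebra.linearMap A T) z) := fun z => by
    induction z using TensorProduct.induction_on with
    | zero => simp
    | add a b ha hb => simp only [map_add, ha, hb]
    | tmul p a => simp [TensorProduct.smul_tmul', Algebra.smul_def]
  rw [key, key, hxy]

theorem exists_cover_data [Algebra.FiniteType A C] (h : SGA3b.IsQuasiIsotrivial A C) :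
    ∃ s : Finset A, Ideal.span (s : Set A) = ⊤ ∧ ∀ f ∈ s, ∃ (T : Type u) (_ : CommRing T) (_ : Algebra A T)
      (_ : Algebra (Localization.Away f) T) (_ : IsScalarTower A (Localization.Away f) T),
      Algebra.Etale A T ∧ Module.FaithfullyFlat (Localization.Away f) T ∧
      ∃ (M : Type u) (_ : AddCommGroup M), AddGroup.FG M ∧ Nonempty (Split A C M T) := by
  obtain ⟨s, hs, H⟩ := h
  obtain ⟨s', hs', hspan⟩ := (Ideal.span_eq_top_iff_finite _).1 hs
  refine ⟨s', hspan, fun f hf => ?_⟩
  obtain ⟨T, _, _, het, hff, N, _, ⟨e⟩⟩ := H f (hs' hf)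
  haveI := het
  letI : Algebra A T := ((algebraMap (Localization.Away f) T).comp (algebraMap A (Localization.Away f))).toAlgebra
  haveI : IsScalarTower A (Localization.Away f) T := IsScalarTower.of_algebraMap_eq fun _ => rfl
  haveI : Algebra.Etale A (Localization.Away f) := Algebra.Etale.of_isLocalizationAway f
  obtain ⟨E₀⟩ := exists_split_of_bialgEquiv e
  obtain ⟨E₁⟩ := exists_split_transfer E₀
  obtain ⟨M, _, hM, hE⟩ := exists_split_fg E₁
  exact ⟨T, inferInstance, inferInstance, inferInstance, inferInstance, Algebra.Etale.comp A (Localization.Away f) T,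
    hff, M, inferInstance, hM, hE⟩

theorem flat_and_finitePresentation [Algebra.FiniteType A C] (h : SGA3b.IsQuasiIsotrivial A C) :
    Module.Flat A C ∧ Algebra.FinitePresentation A C := by
  refine ⟨FinMult.flat_of_isMultType (FlatLift.isMultType_of_isQuasiIsotrivial h), ?_⟩
  obtain ⟨s, hs, H⟩ := exists_cover_data h
  rw [← RingHom.finitePresentation_algebraMap]
  refine RingHom.finitePresentation_isLocal.ofLocalizationSpan (algebraMap A C) s hs fun r => ?_
  obtain ⟨T, _, _, _, _, -, hff, M, _, -, ⟨E⟩⟩ := H r.1 r.2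
  haveI := hff
  let Ar := Localization.Away r.1
  obtain ⟨E'⟩ := exists_split_transfer' (R' := Ar) E
  haveI := finitePresentation_of_split E'
  letI : Algebra Ar (Localization.Away (algebraMap A C r.1)) := (Localization.awayMap (algebraMap A C) r.1).toAlgebra
  haveI : IsScalarTower A Ar (Localization.Away (algebraMap A C r.1)) := IsScalarTower.of_algebraMap_eq fun a => by
    show _ = Localization.awayMap (algebraMap A C) r.1 (algebraMap A Ar a)
    exact ((IsLocalization.map_eq _ a).trans
      (IsScalarTower.algebraMap_apply A C (Localization.Away (algebraMap A C r.1)) a).symm).symm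
  let φ : Ar ⊗[A] C →ₐ[Ar] Localization.Away (algebraMap A C r.1) :=
    Algebra.TensorProduct.lift (Algebra.ofId Ar _)
      (IsScalarTower.toAlgHom A C (Localization.Away (algebraMap A C r.1))) fun _ _ => Commute.all _ _
  have hu : IsUnit ((Algebra.TensorProduct.includeRight : C →ₐ[A] Ar ⊗[A] C) (algebraMap A C r.1)) := by
    rw [AlgHom.commutes, IsScalarTower.algebraMap_apply A Ar (Ar ⊗[A] C)]
    exact (IsLocalization.Away.algebraMap_isUnit r.1).map _
  let ψ : Localization.Away (algebraMap A C r.1) →+* Ar ⊗[A] C :=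
    IsLocalization.Away.lift (algebraMap A C r.1) (g := (Algebra.TensorProduct.includeRight : C →ₐ[A] Ar ⊗[A] C).toRingHom) hu
  have hψ : ∀ c, ψ (algebraMap C _ c) = (1 : Ar) ⊗ₜ[A] c := fun c =>
    IsLocalization.Away.lift_eq (algebraMap A C r.1) hu c
  have h1 : φ.toRingHom.comp ψ = RingHom.id _ := IsLocalization.ringHom_ext (Submonoid.powers (algebraMap A C r.1))
    (RingHom.ext fun c => by
      show φ (ψ (algebraMap C _ c)) = _
      rw [hψ, Algebra.TensorProduct.lift_tmul, map_one, one_mul]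
      rfl)
  have h2 : ψ.comp φ.toRingHom = RingHom.id _ := by
    refine Algebra.TensorProduct.ringHom_ext (IsLocalization.ringHom_ext (Submonoid.powers r.1) (RingHom.ext fun a => ?_))
      (RingHom.ext fun c => ?_)
    · show ψ (φ (algebraMap A Ar a ⊗ₜ 1)) = algebraMap A Ar a ⊗ₜ 1
      rw [Algebra.TensorProduct.lift_tmul, map_one, mul_one]
      show ψ (algebraMap Ar _ (algebraMap A Ar a)) = _
      rw [← IsScalarTower.algebraMap_apply A Ar]
      refine (congrArg ψ (IsScalarTower.algebraMap_apply A C _ a)).trans ((hψ _).trans ?_)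
      rw [Algebra.algebraMap_eq_smul_one, ← TensorProduct.smul_tmul, ← Algebra.algebraMap_eq_smul_one]
    · show ψ (φ (1 ⊗ₜ c)) = 1 ⊗ₜ c
      rw [Algebra.TensorProduct.lift_tmul, map_one, one_mul]
      exact hψ c
  have hbij : Function.Bijective φ :=
    Function.bijective_iff_has_inverse.2 ⟨ψ, fun x => RingHom.congr_fun h2 x, fun x => RingHom.congr_fun h1 x⟩
  exact RingHom.finitePresentation_algebraMap.2 (Algebra.FinitePresentation.equiv (AlgEquiv.ofBijective φ hbij))

/-- Descent to a member of a directed union. -/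
theorem result {ι : Type u} [Preorder ι] [IsDirected ι (· ≤ ·)] [Nonempty ι]
    (Bs : ι → Subring A) (hmono : Monotone Bs) (hsup : ⨆ i, Bs i = ⊤) [Algebra.FiniteType A C] :
    (SGA3b.IsQuasiIsotrivial A C → ∃ (i : ι) (Ci : Type u) (_ : CommRing Ci) (_ : HopfAlgebra (Bs i) Ci),
      Algebra.FiniteType (Bs i) Ci ∧ SGA3b.IsQuasiIsotrivial (Bs i) Ci ∧ Nonempty ((A ⊗[Bs i] Ci) ≃ₐc[A] C)) ∧
    (SGA3b.IsIsotrivial A C → ∃ (i : ι) (Ci : Type u) (_ : CommRing Ci) (_ : HopfAlgebra (Bs i) Ci),
      Algebra.FiniteType (Bs i) Ci ∧ SGA3b.IsIsotrivial (Bs i) Ci ∧ Nonempty ((A ⊗[Bs i] Ci) ≃ₐc[A] C)) := by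
  classical
  have hstage : ∀ F : Finset A, ∃ i, (F : Set A) ⊆ Bs i := by
    intro F
    induction F using Finset.induction_on with
    | empty => exact ⟨Classical.arbitrary ι, by simp⟩
    | insert a F _ ih =>
      obtain ⟨i, hi⟩ := ih
      obtain ⟨j, hj⟩ := (Subring.mem_iSup_of_directed hmono.directed_le).1
        (hsup ▸ Subring.mem_top a : a ∈ ⨆ i, Bs i)
      obtain ⟨k, hik, hjk⟩ := exists_ge_ge i j
      exact ⟨k, by rw [Finset.coe_insert]; exact Set.insert_subset (hmono hjk hj) (hi.trans (hmono hik))⟩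
  refine ⟨fun h => ?_, fun h => ?_⟩
  · obtain ⟨hfl, hfp⟩ := flat_and_finitePresentation h
    haveI := hfl
    obtain ⟨R₂, _, _, B, _, _, hft, -, hBfl, hBfp, ⟨e⟩⟩ := HomLift.exists_hopf_model A C hfp
    haveI := hBfl; haveI := hBfp; haveI := hft
    haveI : IsNoetherianRing R₂ := Algebra.FiniteType.isNoetherianRing ℤ R₂
    obtain ⟨G, hG⟩ := hft.out
    obtain ⟨s, hs, H⟩ := exists_cover_data h
    have key : ∀ f ∈ s, ∃ F : Finset A, ∀ (Q : Type u) [CommRing Q] [Algebra R₂ Q] (i : Q →ₐ[R₂] A) (f' : Q),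
        Function.Injective i → (F : Set A) ⊆ i.range → i f' = f →
          SGA3b.IsQuasiIsotrivialConst (Localization.Away f') (Localization.Away f' ⊗[Q] (Q ⊗[R₂] B)) := by
      intro f hf
      obtain ⟨T, _, _, _, _, het, hff, M, _, hM, ⟨E⟩⟩ := H f hf
      haveI := het; haveI := hff; haveI := hM
      letI : Algebra R₂ T := ((algebraMap A T).comp (algebraMap R₂ A)).toAlgebra
      haveI : IsScalarTower R₂ A T := IsScalarTower.of_algebraMap_eq fun _ => rfl
      obtain ⟨E₁⟩ := HomLift.exists_split_equiv e.symm E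
      obtain ⟨E₂⟩ := exists_split_transfer E₁
      obtain ⟨F, hF⟩ := exists_finset_cover f (fun p hp => by
        let Af := Localization.Away f
        obtain ⟨q, hq⟩ : p ∈ Set.range (PrimeSpectrum.comap (algebraMap A Af)) := by
          rw [PrimeSpectrum.localization_away_comap_range Af f]; exact hp
        obtain ⟨t, ht⟩ := PrimeSpectrum.comap_surjective_of_faithfullyFlat (A := Af) (B := T) q
        exact ⟨t, by rw [IsScalarTower.algebraMap_eq A Af T, PrimeSpectrum.comap_comp_apply, ht, hq]⟩) E₂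
      refine ⟨F, fun Q _ _ i f' hi hFQ hf' => ?_⟩
      obtain ⟨W, _, _, _, _, hW, -, hcov, ⟨EW⟩⟩ := hF Q i f' hi hFQ hf'
      haveI := hW
      exact isQuasiIsotrivialConst_of_cover f' hcov EW
    choose F hF using key
    obtain ⟨c, hc⟩ := Submodule.mem_span_finset.1 (show (1 : A) ∈ Submodule.span A (s : Set A) from
      (Ideal.eq_top_iff_one _).1 hs)
    obtain ⟨i, hi⟩ := hstage (G.image (algebraMap R₂ A) ∪ s.attach.biUnion (fun f => F f.1 f.2) ∪ s ∪ s.image c)
    simp only [Finset.coe_union, Set.union_subset_iff] at hi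
    obtain ⟨⟨⟨hiG, hiF⟩, his⟩, hic⟩ := hi
    have hR₂ : ∀ x, algebraMap R₂ A x ∈ Bs i := fun x => by
      have hx : x ∈ Algebra.adjoin ℤ (G : Set R₂) := hG ▸ Algebra.mem_top
      induction hx using Algebra.adjoin_induction with
      | mem x hx => exact hiG (Finset.mem_coe.2 (Finset.mem_image_of_mem _ hx))
      | algebraMap r => rw [eq_intCast, map_intCast]; exact intCast_mem _ r
      | add a b _ _ ha hb => rw [map_add]; exact add_mem ha hb
      | mul a b _ _ ha hb => rw [map_mul]; exact mul_mem ha hb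
    letI : Algebra R₂ (Bs i) := ((algebraMap R₂ A).codRestrict (Bs i) hR₂).toAlgebra
    haveI : IsScalarTower R₂ (Bs i) A := IsScalarTower.of_algebraMap_eq fun _ => rfl
    refine ⟨i, Bs i ⊗[R₂] B, inferInstance, inferInstance, inferInstance,
      ⟨Set.range fun f : s => (⟨f.1, his (Finset.mem_coe.2 f.2)⟩ : Bs i), ?_, ?_⟩,
      ⟨(HomLift.cancelBC R₂ (Bs i) A B).trans e⟩⟩
    · rw [Ideal.eq_top_iff_one]
      have : (1 : Bs i) = ∑ f ∈ s.attach, (⟨c f.1, hic (Finset.mem_coe.2 (Finset.mem_image_of_mem c f.2))⟩ : Bs i) *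
          ⟨f.1, his (Finset.mem_coe.2 f.2)⟩ := Subtype.ext (by
        rw [AddSubmonoidClass.coe_finsetSum]
        show (1 : A) = ∑ f ∈ s.attach, c f.1 * f.1
        rw [Finset.sum_attach s (fun f => c f * f), ← hc.2]
        simp [smul_eq_mul])
      rw [this]
      exact Ideal.sum_mem _ fun f _ => Ideal.mul_mem_left _ _ (Ideal.subset_span ⟨f, rfl⟩)
    · rintro _ ⟨f, rfl⟩
      exact hF f.1 f.2 (Bs i) (IsScalarTower.toAlgHom R₂ (Bs i) A) _ Subtype.val_injective (fun x hx =>
        ⟨⟨x, hiF (Finset.mem_coe.2 (Finset.mem_biUnion.2 ⟨f, Finset.mem_attach _ _, hx⟩))⟩, rfl⟩) rfl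
  · obtain ⟨T, _, _, het, hfin, hff, M₀, _, ⟨E₀⟩⟩ := isQuasiIsotrivial_of_isIsotrivial h
    haveI := het; haveI := hfin; haveI := hff
    haveI : Algebra.FinitePresentation A C := finitePresentation_of_split E₀
    haveI := QIso.flat_of_split E₀
    obtain ⟨M, _, hM, ⟨E⟩⟩ := exists_split_fg E₀
    haveI := hM
    obtain ⟨R₂, _, _, B, _, _, hft, -, hBfl, hBfp, ⟨e⟩⟩ :=
      HomLift.exists_hopf_model A C (inferInstance : Algebra.FinitePresentation A C)
    haveI := hBfl; haveI := hBfp; haveI := hft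
    haveI : IsNoetherianRing R₂ := Algebra.FiniteType.isNoetherianRing ℤ R₂
    obtain ⟨G, hG⟩ := hft.out
    letI : Algebra R₂ T := ((algebraMap A T).comp (algebraMap R₂ A)).toAlgebra
    haveI : IsScalarTower R₂ A T := IsScalarTower.of_algebraMap_eq fun _ => rfl
    obtain ⟨E₁⟩ := HomLift.exists_split_equiv e.symm E
    obtain ⟨E₂⟩ := exists_split_transfer E₁
    obtain ⟨F, hF⟩ := exists_finset_cover (1 : A) (fun p _ =>
      PrimeSpectrum.comap_surjective_of_faithfullyFlat (A := A) (B := T) p) E₂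
    obtain ⟨i, hi⟩ := hstage (G.image (algebraMap R₂ A) ∪ F)
    simp only [Finset.coe_union, Set.union_subset_iff] at hi
    obtain ⟨hiG, hiF⟩ := hi
    have hR₂ : ∀ x, algebraMap R₂ A x ∈ Bs i := fun x => by
      have hx : x ∈ Algebra.adjoin ℤ (G : Set R₂) := hG ▸ Algebra.mem_top
      induction hx using Algebra.adjoin_induction with
      | mem x hx => exact hiG (Finset.mem_coe.2 (Finset.mem_image_of_mem _ hx))
      | algebraMap r => rw [eq_intCast, map_intCast]; exact intCast_mem _ r
      | add a b _ _ ha hb => rw [map_add]; exact add_mem ha hb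
      | mul a b _ _ ha hb => rw [map_mul]; exact mul_mem ha hb
    letI : Algebra R₂ (Bs i) := ((algebraMap R₂ A).codRestrict (Bs i) hR₂).toAlgebra
    haveI : IsScalarTower R₂ (Bs i) A := IsScalarTower.of_algebraMap_eq fun _ => rfl
    obtain ⟨W, _, _, _, _, hW, hWfin, hcov, ⟨EW⟩⟩ := hF (Bs i) (IsScalarTower.toAlgHom R₂ (Bs i) A) 1
      Subtype.val_injective (fun x hx => ⟨⟨x, hiF hx⟩, rfl⟩) (map_one _)
    haveI := hW; haveI := hWfin hfin
    exact ⟨i, Bs i ⊗[R₂] B, inferInstance, inferInstance, inferInstance,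
      isIsotrivial_of_cover (fun x => hcov x fun h => x.2.ne_top ((Ideal.eq_top_iff_one _).2 h)) EW,
      ⟨(HomLift.cancelBC R₂ (Bs i) A B).trans e⟩⟩

end Groth.Agent.IsoDesc
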